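import Mathlib

set_option autoImplicit false
set_option linter.style.haveILetI false

/-!
Counting derangements in transitive groups.
-/

namespace Cfsg.Agent.Lib.Derange.Counting

open MulAction
open scoped Classical

variable {G Ω : Type*} [Group G] [Fintype G] [MulAction G Ω] [Fintype Ω]

open Classical in
/-- The number of fixed points. -/
noncomputable def nfix (g : G) : ℕ := (Finset.univ.filter fun ω : Ω => g • ω = ω).card

local notation "π" => nfix (Ω := Ω)

omit [Fintype G] in
lemma nfix_le (g : G) : π g ≤ Fintype.card Ω := by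
  classical
  exact Finset.card_le_univ _

omit [Fintype G] in
lemma nfix_eq_zero_iff (g : G) : π g = 0 ↔ ∀ ω : Ω, g • ω ≠ ω := by
  classical
  simp [nfix, Finset.card_eq_zero, Finset.filter_eq_empty_iff]

omit [Fintype G] in
lemma nfix_one : π (1 : G) = Fintype.card Ω := by
  classical
  simp [nfix]

omit [Fintype G] in
lemma nfix_eq_card_iff [FaithfulSMul G Ω] (g : G) : π g = Fintype.card Ω ↔ g = 1 := by
  classical
  constructor
  · intro h
    refine eq_of_smul_eq_smul fun ω : Ω => ?_
    have := Finset.eq_univ_of_card _ h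
    rw [one_smul]
    have hm : ω ∈ Finset.univ.filter (fun ω : Ω => g • ω = ω) := by rw [this]; exact Finset.mem_univ ω
    exact (Finset.mem_filter.mp hm).2
  · rintro rfl
    exact nfix_one

omit [Fintype G] in
lemma nfix_conj (c g : G) : π (c * g * c⁻¹) = π g := by
  classical
  refine Finset.card_nbij' (fun ω => c⁻¹ • ω) (fun ω => c • ω) ?_ ?_ ?_ ?_
  · intro ω hω
    simp only [Finset.coe_filter, Finset.mem_univ, true_and, Set.mem_setOf_eq, mul_smul] at hω ⊢
    rw [smul_eq_iff_eq_inv_smul] at hω
    exact hω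
  · intro ω hω
    simp only [Finset.coe_filter, Finset.mem_univ, true_and, Set.mem_setOf_eq, mul_smul] at hω ⊢
    rw [inv_smul_smul, hω]
  · intro ω _; simp
  · intro ω _; simp

lemma card_fixedBy_eq (g : G) : Nat.card (fixedBy Ω g) = π g := by
  classical
  rw [Nat.card_eq_fintype_card]
  exact Fintype.card_subtype _

/-- Double counting through point stabilisers. -/
lemma sum_nfix_mul (φ : G → ℤ) :
    ∑ g : G, (π g : ℤ) * φ g = ∑ ω : Ω, ∑ g : G, if g • ω = ω then φ g else 0 := by
  classical
  rw [Finset.sum_comm]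
  refine Finset.sum_congr rfl fun g _ => ?_
  rw [nfix, ← Finset.sum_filter, Finset.sum_const, nsmul_eq_mul]

lemma sum_ite_stab (ω : Ω) (φ : G → ℤ) [DecidablePred (· ∈ stabilizer G ω)] [DecidableEq Ω] :
    (∑ g : G, if g • ω = ω then φ g else 0) = ∑ g : stabilizer G ω, φ g := by
  rw [← Finset.sum_filter]
  exact Finset.sum_subtype _ (fun x => by simp [mem_stabilizer_iff]) φ

/-- Burnside's lemma for `G`. -/
lemma sum_nfix [IsPretransitive G Ω] [Nonempty Ω] : ∑ g : G, (π g : ℤ) = Fintype.card G := by
  classical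
  have h := sum_card_fixedBy_eq_card_orbits_mul_card_group G Ω
  haveI : Unique (Quotient (orbitRel G Ω)) :=
    { default := Quotient.mk _ (Classical.arbitrary Ω)
      uniq := fun q => Quotient.inductionOn q fun ω => Quotient.sound (by
        exact mem_orbit_iff.mpr (exists_smul_eq G (Classical.arbitrary Ω) ω)) }
  rw [Fintype.card_unique, one_mul] at h
  rw [← h, Nat.cast_sum]
  refine Finset.sum_congr rfl fun g _ => ?_
  rw [← card_fixedBy_eq, Nat.card_eq_fintype_card]

variable (G) in
/-- The rank: the number of orbits of a point stabiliser. -/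
noncomputable def rank (α : Ω) : ℕ := Nat.card (Quotient (orbitRel (stabilizer G α) Ω))

lemma sum_nfix_sq [IsPretransitive G Ω] (α : Ω) :
    ∑ g : G, (π g : ℤ) * π g = rank G α * Fintype.card G := by
  classical
  rw [sum_nfix_mul (fun g => (π g : ℤ))]
  have hconst : ∀ ω : Ω, (∑ g : G, if g • ω = ω then (π g : ℤ) else 0)
      = ∑ g : G, if g • α = α then (π g : ℤ) else 0 := by
    intro ω
    obtain ⟨c, rfl⟩ := exists_smul_eq G α ω
    refine (Equiv.sum_comp (MulAut.conj c).toEquiv _).symm.trans (Finset.sum_congr rfl fun g _ => ?_)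
    simp only [MulEquiv.toEquiv_eq_coe, MulEquiv.coe_toEquiv, MulAut.conj_apply, nfix_conj]
    refine if_congr ?_ rfl rfl
    rw [mul_smul, inv_smul_smul, mul_smul, smul_left_cancel_iff]
  rw [Finset.sum_congr rfl fun ω _ => hconst ω, Finset.sum_const, Finset.card_univ, nsmul_eq_mul, sum_ite_stab]
  have h := sum_card_fixedBy_eq_card_orbits_mul_card_group (stabilizer G α) Ω
  have h1 : ∑ g : stabilizer G α, ((π (g : G) : ℕ) : ℤ) = rank G α * Fintype.card (stabilizer G α) := by
    rw [← Nat.cast_sum, rank, Nat.card_eq_fintype_card, ← Nat.cast_mul, ← h]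
    congr 1
    refine Finset.sum_congr rfl fun g _ => ?_
    rw [← card_fixedBy_eq, Nat.card_eq_fintype_card]
    exact Fintype.card_congr (Equiv.subtypeEquivRight fun ω => Iff.rfl)
  have h2 : Fintype.card (orbit G α) * Fintype.card (stabilizer G α) = Fintype.card G :=
    card_orbit_mul_card_stabilizer_eq_card_group G α
  have h3 : Fintype.card (orbit G α) = Fintype.card Ω := by
    simp [orbit_eq_univ]
  rw [h1, ← h2, h3]
  push_cast
  ring

variable (G Ω) in
/-- The number of derangements. -/
noncomputable def nder : ℕ := Nat.card {g : G // ∀ ω : Ω, g • ω ≠ ω}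

variable (G Ω) in
/-- The excess term. -/
noncomputable def excess : ℤ :=
  ∑ g : G, if π g = 0 then 0 else ((Fintype.card Ω : ℤ) - π g) * ((π g : ℤ) - 1)

/-- The basic identity: `n D = (r - 1) |G| + E`. -/
theorem basic_identity [IsPretransitive G Ω] (α : Ω) :
    (Fintype.card Ω : ℤ) * nder G Ω = ((rank G α : ℤ) - 1) * Fintype.card G + excess G Ω := by
  classical
  haveI : Nonempty Ω := ⟨α⟩
  set n : ℤ := (Fintype.card Ω : ℤ) with hn
  have hD : (nder G Ω : ℤ) = ∑ g : G, if π g = 0 then (1 : ℤ) else 0 := by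
    rw [nder, Nat.card_eq_fintype_card, Fintype.card_subtype, Finset.sum_boole]
    congr 2
    ext g
    simp [nfix_eq_zero_iff]
  have hpt : ∀ g : G, (if π g = 0 then (0 : ℤ) else (n - π g) * ((π g : ℤ) - 1))
      = -((π g : ℤ) * π g) + (n + 1) * π g - n + n * (if π g = 0 then (1 : ℤ) else 0) := by
    intro g
    split
    · simp [*]
    · ring
  rw [excess, Finset.sum_congr rfl fun g _ => hpt g, Finset.sum_add_distrib, Finset.sum_sub_distrib,
    Finset.sum_add_distrib, Finset.sum_neg_distrib, ← Finset.mul_sum, ← Finset.mul_sum, sum_nfix, sum_nfix_sq α,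
    Finset.sum_const, Finset.card_univ, nsmul_eq_mul, ← hD]
  ring

lemma excess_term_nonneg (g : G) :
    (0 : ℤ) ≤ if π g = 0 then 0 else ((Fintype.card Ω : ℤ) - π g) * ((π g : ℤ) - 1) := by
  split
  · exact le_rfl
  · rename_i h
    have h1 : 1 ≤ π g := Nat.one_le_iff_ne_zero.mpr h
    have h2 := nfix_le (Ω := Ω) g
    exact mul_nonneg (by omega) (by omega)

lemma excess_nonneg : 0 ≤ excess G Ω := Finset.sum_nonneg fun g _ => excess_term_nonneg g

lemma excess_eq_zero [FaithfulSMul G Ω] (h : excess G Ω = 0) (g : G) (hg : g ≠ 1) : π g ≤ 1 := by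
  by_contra hgt
  have h1 := (Finset.sum_eq_zero_iff_of_nonneg (fun g _ => excess_term_nonneg g)).mp h g (Finset.mem_univ g)
  rw [if_neg (by omega)] at h1
  rcases mul_eq_zero.mp h1 with h2 | h2
  · exact hg ((nfix_eq_card_iff (Ω := Ω) g).mp (by omega))
  · omega

lemma two_le_rank [IsPretransitive G Ω] (hn : 2 ≤ Fintype.card Ω) (α : Ω) : 2 ≤ rank G α := by
  classical
  rw [rank, Nat.card_eq_fintype_card]
  obtain ⟨β, hβ⟩ := Fintype.exists_ne_of_one_lt_card (by omega) α
  refine Fintype.one_lt_card_iff_nontrivial.mpr ⟨⟨Quotient.mk _ α, Quotient.mk _ β, fun h => ?_⟩⟩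
  have := Quotient.exact h
  change α ∈ orbit (stabilizer G α) β at this
  obtain ⟨x, hx⟩ := this
  apply hβ
  have h1 : (x : G) • β = α := hx
  have h2 : (x : G)⁻¹ • α = α := inv_mem x.2
  rw [smul_eq_iff_eq_inv_smul, h2] at h1
  exact h1

omit [Fintype G] in
lemma exists_pair_map [IsPretransitive G Ω] [Finite G] {α : Ω} (hr : rank G α ≤ 2) {a b : Ω} (hab : a ≠ b)
    {β : Ω} (hβ : β ≠ α) : ∃ g : G, g • α = a ∧ g • β = b := by
  classical
  obtain ⟨g, rfl⟩ := exists_smul_eq G α a
  set b' := g⁻¹ • b with hb'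
  have hb'α : b' ≠ α := by
    rw [hb', Ne, inv_smul_eq_iff]
    exact hab.symm
  have hsame : (Quotient.mk (orbitRel (stabilizer G α) Ω) b') = Quotient.mk _ β := by
    by_contra hne
    have hα : ∀ c, c ≠ α → (Quotient.mk (orbitRel (stabilizer G α) Ω) c) ≠ Quotient.mk _ α := by
      intro c hc h
      have := Quotient.exact h
      obtain ⟨x, hx⟩ := this
      apply hc
      rw [← hx]
      exact x.2
    have h3 : 3 ≤ rank G α := by
      haveI := Fintype.ofFinite (Quotient (orbitRel (stabilizer G α) Ω))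
      rw [rank, Nat.card_eq_fintype_card]
      calc 3 = ({Quotient.mk _ α, Quotient.mk _ b', Quotient.mk _ β} : Finset _).card := by
            rw [Finset.card_insert_of_notMem, Finset.card_pair hne]
            simp [(hα b' hb'α).symm, (hα β hβ).symm]
        _ ≤ _ := Finset.card_le_univ _
    omega
  obtain ⟨x, hx⟩ := Quotient.exact hsame
  refine ⟨g * x, ?_, ?_⟩
  · rw [mul_smul]
    exact congrArg (g • ·) x.2
  · rw [mul_smul]
    change g • ((x : G) • β) = b
    rw [show (x : G) • β = b' from hx, hb', smul_inv_smul]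

end Cfsg.Agent.Lib.Derange.Counting
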