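import Cfsg.Agent.Lib.Derange.TwoTrans

set_option autoImplicit false
set_option linter.style.haveILetI false
set_option linter.unusedSectionVars false

/-!
The lower bound `|G|` for the excess term in 2-transitive groups of degree at least seven that are not sharply
2-transitive.
-/

namespace Cfsg.Agent.Lib.Derange.Excess

open MulAction Cfsg.Agent.Lib.Derange.Counting Cfsg.Agent.Lib.Derange.TwoTrans
open scoped Classical

variable {G Ω : Type*} [Group G] [Fintype G] [MulAction G Ω] [FaithfulSMul G Ω] [Fintype Ω]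

variable (G) in
/-- The weight `(n - π) / π`. -/
noncomputable def weight (Ω : Type*) [MulAction G Ω] [Fintype Ω] (g : G) : ℚ :=
  ((Fintype.card Ω : ℚ) - nfix (Ω := Ω) g) / nfix (Ω := Ω) g

lemma offDiag_count (φ : G → ℚ) :
    ∑ g : G, ((nfix (Ω := Ω) g : ℚ) * nfix (Ω := Ω) g - nfix (Ω := Ω) g) * φ g
      = ∑ p ∈ (Finset.univ : Finset Ω).offDiag, ∑ g ∈ Finset.univ.filter (· ∈ pairStab G p.1 p.2), φ g := by
  simp only [Finset.sum_filter]
  rw [Finset.sum_comm]
  refine Finset.sum_congr rfl fun g _ => ?_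
  rw [← Finset.sum_filter, Finset.sum_const, nsmul_eq_mul]
  congr 1
  have h1 : (Finset.univ.filter fun ω : Ω => g • ω = ω).offDiag
      = (Finset.univ : Finset Ω).offDiag.filter (fun p => g ∈ pairStab G p.1 p.2) := by
    ext p
    simp only [Finset.mem_offDiag, Finset.mem_filter, Finset.mem_univ, true_and, mem_pairStab]
    tauto
  rw [← h1, Finset.offDiag_card, Nat.cast_sub (Nat.le_mul_self _)]
  push_cast
  rfl

lemma sum_pair_eq (ht : TwoTrans G Ω) {α β : Ω} (hab : α ≠ β) (φ : G → ℚ)
    (hφ : ∀ c g : G, φ (c * g * c⁻¹) = φ g) :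
    ∑ g : G, ((nfix (Ω := Ω) g : ℚ) * nfix (Ω := Ω) g - nfix (Ω := Ω) g) * φ g
      = (Fintype.card Ω : ℚ) * ((Fintype.card Ω : ℚ) - 1) * ∑ g ∈ Finset.univ.filter (· ∈ pairStab G α β), φ g := by
  rw [offDiag_count]
  have hconst : ∀ p ∈ (Finset.univ : Finset Ω).offDiag,
      ∑ g ∈ Finset.univ.filter (· ∈ pairStab G p.1 p.2), φ g
        = ∑ g ∈ Finset.univ.filter (· ∈ pairStab G α β), φ g := by
    intro p hp
    obtain ⟨c, hc1, hc2⟩ := ht α β p.1 p.2 hab (Finset.mem_offDiag.mp hp).2.2
    refine (Finset.sum_bij (fun g _ => c * g * c⁻¹) ?_ ?_ ?_ ?_).symm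
    · intro g hg
      simp only [Finset.mem_filter, Finset.mem_univ, true_and] at hg ⊢
      exact conj_mem_pairStab hc1 hc2 hg
    · intro a _ b _ h
      simpa using h
    · intro g hg
      refine ⟨c⁻¹ * g * c, ?_, by group⟩
      simp only [Finset.mem_filter, Finset.mem_univ, true_and] at hg ⊢
      refine (conj_mem_pairStab_iff hc1 hc2).mp ?_
      simpa [mul_assoc] using hg
    · intro g _
      exact (hφ c g).symm
  rw [Finset.sum_congr rfl hconst, Finset.sum_const, nsmul_eq_mul, Finset.offDiag_card, Finset.card_univ,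
    Nat.cast_sub (Nat.le_mul_self _)]
  push_cast
  ring

lemma card_group_eq (ht : TwoTrans G Ω) (hn : 2 ≤ Fintype.card Ω) [IsPretransitive G Ω] {α β : Ω} (hab : α ≠ β)
    (hr : rank G α = 2) :
    (Fintype.card G : ℚ) = (Fintype.card Ω : ℚ) * ((Fintype.card Ω : ℚ) - 1) * Nat.card (pairStab G α β) := by
  haveI : Nonempty Ω := ⟨α⟩
  have h := sum_pair_eq ht hab (fun _ => (1 : ℚ)) (fun _ _ => rfl)
  rw [Finset.sum_const, nsmul_eq_mul, mul_one, ← Fintype.card_subtype,
    ← Nat.card_eq_fintype_card (α := {x // x ∈ pairStab G α β})] at h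
  rw [← h]
  have h1 : ∑ g : G, ((nfix (Ω := Ω) g : ℤ) * nfix (Ω := Ω) g - nfix (Ω := Ω) g) = Fintype.card G := by
    rw [Finset.sum_sub_distrib, sum_nfix_sq α, sum_nfix, hr]
    push_cast
    ring
  have h2 := congrArg (fun z : ℤ => (z : ℚ)) h1
  push_cast at h2
  simp only [mul_one]
  exact h2.symm

lemma excess_eq (ht : TwoTrans G Ω) {α β : Ω} (hab : α ≠ β) :
    (excess G Ω : ℚ) = (Fintype.card Ω : ℚ) * ((Fintype.card Ω : ℚ) - 1) *
      ∑ g ∈ Finset.univ.filter (· ∈ pairStab G α β), weight G Ω g := by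
  rw [← sum_pair_eq ht hab (weight G Ω) (fun c g => by rw [weight, weight, nfix_conj]), excess]
  push_cast
  refine Finset.sum_congr rfl fun g _ => ?_
  split
  · rename_i h
    simp [weight, h]
  · rename_i h
    push_cast
    have hne : (nfix (Ω := Ω) g : ℚ) ≠ 0 := by exact_mod_cast h
    rw [weight]
    field_simp

variable (G) in
/-- The number of orbits of the two-point stabiliser. -/
noncomputable def norb (a b : Ω) : ℕ := Nat.card (Quotient (orbitRel (pairStab G a b) Ω))

lemma sum_nfix_pairStab (a b : Ω) :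
    ∑ g ∈ Finset.univ.filter (· ∈ pairStab G a b), nfix (Ω := Ω) g = norb G a b * Nat.card (pairStab G a b) := by
  have h := sum_card_fixedBy_eq_card_orbits_mul_card_group (pairStab G a b) Ω
  rw [norb, Nat.card_eq_fintype_card, Nat.card_eq_fintype_card, ← h,
    Finset.sum_subtype (p := (· ∈ pairStab G a b)) (Finset.univ.filter (· ∈ pairStab G a b)) (fun x => by simp)
      (fun g => nfix (Ω := Ω) g)]
  refine Finset.sum_congr rfl fun g _ => ?_
  rw [← card_fixedBy_eq, Nat.card_eq_fintype_card]
  exact Fintype.card_congr (Equiv.subtypeEquivRight fun ω => Iff.rfl)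

/-- The tangent bound. -/
lemma weight_sum_of_orbits {α β : Ω} (hab : α ≠ β) (hh : 2 ≤ Nat.card (pairStab G α β))
    (hcond : (norb G α β : ℤ) * (2 * Nat.card (pairStab G α β) - 1)
      ≤ Fintype.card Ω * Nat.card (pairStab G α β)) :
    (Nat.card (pairStab G α β) : ℚ) ≤ ∑ g ∈ Finset.univ.filter (· ∈ pairStab G α β), weight G Ω g := by
  set KF := Finset.univ.filter (· ∈ pairStab G α β) with hKF
  set h : ℚ := (Nat.card (pairStab G α β) : ℚ) with hh'
  set n : ℚ := (Fintype.card Ω : ℚ) with hn'
  have hhq : (2 : ℚ) ≤ h := by rw [hh']; exact_mod_cast hh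
  have hnpos : (0 : ℚ) < n := by rw [hn']; exact_mod_cast Fintype.card_pos_iff.mpr ⟨α⟩
  set a : ℚ := n * (h - 1) / (2 * h - 1) with ha
  have ha0 : 0 < a := div_pos (mul_pos hnpos (by linarith)) (by linarith)
  have h1mem : (1 : G) ∈ KF := by simp [hKF, one_mem]
  have hpt : ∀ g ∈ KF.erase 1, n * (2 * a - nfix (Ω := Ω) g) / a ^ 2 - 1 ≤ weight G Ω g := by
    intro g hg
    have hgmem := mem_pairStab.mp (Finset.mem_filter.mp (Finset.mem_of_mem_erase hg)).2
    have h2 : 2 ≤ nfix (Ω := Ω) g := by
      calc 2 = ({α, β} : Finset Ω).card := (Finset.card_pair hab).symm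
        _ ≤ _ := Finset.card_le_card (by
          intro z hz
          simp only [Finset.mem_insert, Finset.mem_singleton] at hz
          rcases hz with rfl | rfl <;> simp [hgmem.1, hgmem.2])
    have hp : (0 : ℚ) < nfix (Ω := Ω) g := by exact_mod_cast (show 0 < nfix (Ω := Ω) g by omega)
    rw [weight, ← hn', sub_div, div_self hp.ne', sub_le_sub_iff_right, div_le_div_iff₀ (by positivity) hp]
    nlinarith [mul_nonneg hnpos.le (sq_nonneg ((nfix (Ω := Ω) g : ℚ) - a))]
  have hsum : ∑ g ∈ KF.erase 1, ((nfix (Ω := Ω) g : ℚ)) = (norb G α β : ℚ) * h - n := by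
    rw [Finset.sum_erase_eq_sub h1mem, nfix_one]
    rw [← Nat.cast_sum, hKF, sum_nfix_pairStab]
    push_cast
    ring
  have hcardK : ((KF.erase 1).card : ℚ) = h - 1 := by
    rw [Finset.card_erase_of_mem h1mem, Nat.cast_sub (Finset.card_pos.mpr ⟨_, h1mem⟩)]
    rw [hKF, ← Fintype.card_subtype, ← Nat.card_eq_fintype_card]
    simp [hh']
  have hkey : (norb G α β : ℚ) * (2 * h - 1) ≤ n * h := by
    rw [hh', hn']
    exact_mod_cast hcond
  calc h ≤ n * (2 * a * (h - 1) - ((norb G α β : ℚ) * h - n)) / a ^ 2 - (h - 1) := by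
        have hP : (norb G α β : ℚ) * h - n ≤ a * (h - 1) := by
          rw [ha, div_mul_eq_mul_div, le_div_iff₀ (by linarith)]
          nlinarith [mul_le_mul_of_nonneg_left hkey (show (0 : ℚ) ≤ h by linarith)]
        have h1 : n * (a * (h - 1)) / a ^ 2 ≤ n * (2 * a * (h - 1) - ((norb G α β : ℚ) * h - n)) / a ^ 2 := by
          refine div_le_div_of_nonneg_right (mul_le_mul_of_nonneg_left (by linarith) hnpos.le) (by positivity)
        have hh1 : h - 1 ≠ 0 := by linarith
        have hh2 : 2 * h - 1 ≠ 0 := by linarith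
        have h2 : n * (a * (h - 1)) / a ^ 2 = 2 * h - 1 := by
          rw [ha]
          field_simp
        linarith
    _ = ∑ g ∈ KF.erase 1, (n * (2 * a - nfix (Ω := Ω) g) / a ^ 2 - 1) := by
        rw [Finset.sum_sub_distrib, Finset.sum_const, nsmul_eq_mul, mul_one, hcardK, ← Finset.sum_div,
          ← Finset.mul_sum, Finset.sum_sub_distrib, Finset.sum_const, nsmul_eq_mul, hcardK, hsum]
        ring
    _ ≤ ∑ g ∈ KF.erase 1, weight G Ω g := Finset.sum_le_sum hpt
    _ = _ := Finset.sum_erase _ (by simp [weight, nfix_one])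

/-- The bound from lines. -/
lemma weight_sum_of_lines (ht : TwoTrans G Ω) (hn : 2 ≤ Fintype.card Ω) {α β : Ω} (hab : α ≠ β)
    (hh : 2 ≤ Nat.card (pairStab G α β))
    (hcase : 4 ≤ (line G α β).card ∨
      ((line G α β).card = 3 ∧ Fintype.card Ω + 1 ≤ 2 * Nat.card (pairStab G α β))) :
    (Nat.card (pairStab G α β) : ℚ) ≤ ∑ g ∈ Finset.univ.filter (· ∈ pairStab G α β), weight G Ω g := by
  set KF := Finset.univ.filter (· ∈ pairStab G α β) with hKF
  set h : ℚ := (Nat.card (pairStab G α β) : ℚ) with hh'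
  set n : ℚ := (Fintype.card Ω : ℚ) with hn'
  set k := (line G α β).card with hk
  have hk3 : 3 ≤ k := by omega
  have hn1 : (0 : ℚ) < n - 1 := by
    have : (2 : ℚ) ≤ n := by rw [hn']; exact_mod_cast hn
    linarith
  have h1mem : (1 : G) ∈ KF := by simp [hKF, one_mem]
  set c : ℚ := n * ((k : ℚ) - 1) / (n - 1) - 1 with hc
  have hpt : ∀ g ∈ KF.erase 1, c ≤ weight G Ω g := by
    intro g hg
    have hgmem := mem_pairStab.mp (Finset.mem_filter.mp (Finset.mem_of_mem_erase hg)).2
    have hb := nfix_mul_le ht hab (Finset.ne_of_mem_erase hg)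
    rw [← hk] at hb
    have hb' : (nfix (Ω := Ω) g : ℚ) * ((k : ℚ) - 1) ≤ n - 1 := by
      have := (Nat.cast_le (α := ℚ)).mpr hb
      rw [Nat.cast_mul, Nat.cast_sub (by omega), Nat.cast_sub (by omega)] at this
      simpa [hn'] using this
    have hp : (0 : ℚ) < nfix (Ω := Ω) g := by
      exact_mod_cast Finset.card_pos.mpr ⟨α, by simp [hgmem.1]⟩
    rw [weight, ← hn', sub_div, div_self hp.ne', hc, sub_le_sub_iff_right, div_le_div_iff₀ hn1 hp]
    nlinarith
  have hcardK : ((KF.erase 1).card : ℚ) = h - 1 := by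
    rw [Finset.card_erase_of_mem h1mem, Nat.cast_sub (Finset.card_pos.mpr ⟨_, h1mem⟩)]
    rw [hKF, ← Fintype.card_subtype, ← Nat.card_eq_fintype_card]
    simp [hh']
  have hhq : (2 : ℚ) ≤ h := by rw [hh']; exact_mod_cast hh
  calc h ≤ (h - 1) * c := by
        rcases hcase with h4 | ⟨h3, hn3⟩
        · have hk4 : (4 : ℚ) ≤ k := by exact_mod_cast h4
          have h5 : 2 ≤ c := by
            rw [hc, le_sub_iff_add_le, le_div_iff₀ hn1]
            nlinarith
          nlinarith
        · have hn3' : n + 1 ≤ 2 * h := by rw [hh', hn']; exact_mod_cast hn3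
          have hc' : c = (n + 1) / (n - 1) := by
            rw [hc, h3]
            field_simp
            ring
          rw [hc', ← mul_div_assoc, le_div_iff₀ hn1]
          nlinarith
    _ = ∑ g ∈ KF.erase 1, c := by rw [Finset.sum_const, nsmul_eq_mul, hcardK]
    _ ≤ ∑ g ∈ KF.erase 1, weight G Ω g := Finset.sum_le_sum hpt
    _ = _ := Finset.sum_erase _ (by simp [weight, nfix_one])

/-- The excess is at least the group order. -/
theorem excess_ge [IsPretransitive G Ω] (hn : 7 ≤ Fintype.card Ω) {α β : Ω} (hab : α ≠ β)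
    (hr : rank G α = 2) (ht : TwoTrans G Ω) (hK : pairStab G α β ≠ ⊥) :
    (Fintype.card G : ℤ) ≤ excess G Ω := by
  set K := pairStab G α β with hKdef
  set n := Fintype.card Ω with hndef
  set k := (line G α β).card with hkdef
  set h := Nat.card K with hhdef
  set t := norb G α β with htdef
  have hh2 : 2 ≤ h := by
    haveI : Nontrivial K := (Subgroup.nontrivial_iff_ne_bot K).mpr hK
    exact Finite.one_lt_card
  suffices hsuff : (h : ℚ) ≤ ∑ g ∈ Finset.univ.filter (· ∈ K), weight G Ω g by
    have h1 : (Fintype.card G : ℚ) ≤ (excess G Ω : ℚ) := by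
      rw [card_group_eq ht (by omega) hab hr, excess_eq ht hab]
      refine mul_le_mul_of_nonneg_left hsuff ?_
      have h7 : (7 : ℚ) ≤ (Fintype.card Ω : ℚ) := by exact_mod_cast hn
      nlinarith
    exact_mod_cast h1
  -- orbit sizes
  let Q := Quotient (orbitRel K Ω)
  let q : Ω → Q := Quotient.mk _
  let sz : Q → ℕ := fun x => (Finset.univ.filter fun ω => q ω = x).card
  have hsz : ∀ ω, (orbit K ω).ncard = sz (q ω) := by
    intro ω
    rw [Set.ncard_eq_toFinset_card' ]
    congr 1
    ext x
    simp only [Set.mem_toFinset, Finset.mem_filter, Finset.mem_univ, true_and, q]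
    exact ⟨fun h => Quotient.sound h, fun h => Quotient.exact h⟩
  have hsz1 : ∀ ω, sz (q ω) = 1 ↔ ω ∈ line G α β := by
    intro ω
    rw [← hsz]
    constructor
    · intro h1
      obtain ⟨a, ha⟩ := Set.ncard_eq_one.mp h1
      refine mem_line.mpr fun x hx => ?_
      have h2 : x • ω ∈ orbit K ω := mem_orbit ω (⟨x, hx⟩ : K)
      have h3 := mem_orbit_self (M := K) ω
      rw [ha, Set.mem_singleton_iff] at h2 h3
      exact h2.trans h3.symm
    · intro hω
      rw [Set.ncard_eq_one]
      refine ⟨ω, Set.Subset.antisymm ?_ (by simp)⟩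
      rintro _ ⟨x, rfl⟩
      exact mem_line.mp hω x x.2
  have hpos : ∀ x : Q, 1 ≤ sz x := by
    intro x
    obtain ⟨ω, rfl⟩ := Quotient.exists_rep x
    exact Finset.card_pos.mpr ⟨ω, by simp [q]⟩
  let s : Q → ℕ := fun x => sz x + (if sz x = 1 then 1 else 0) - 2
  have hs : ∀ x : Q, (s x : ℤ) = (sz x : ℤ) + (if sz x = 1 then 1 else 0) - 2 := by
    intro x
    have := hpos x
    simp only [s]
    split <;> omega
  have hsum_n : ∑ x : Q, sz x = n := (Finset.card_eq_sum_card_fiberwise (fun ω _ => Finset.mem_univ (q ω))).symm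
  have hsum_k : ∑ x : Q, (if sz x = 1 then 1 else 0) = k := by
    rw [← Finset.card_filter, hkdef]
    refine (Finset.card_bij (fun ω _ => q ω) ?_ ?_ ?_).symm
    · intro ω hω
      simp [(hsz1 ω).mpr hω]
    · intro a ha b _ hq
      obtain ⟨x, hx⟩ := Quotient.exact hq.symm
      rw [← hx]
      exact (mem_line.mp ha x x.2).symm
    · intro x hx
      obtain ⟨ω, rfl⟩ := Quotient.exists_rep x
      exact ⟨ω, (hsz1 ω).mp (Finset.mem_filter.mp hx).2, rfl⟩
  set E := ∑ x : Q, s x with hEdef
  have hE : (E : ℤ) = (n : ℤ) + k - 2 * t := by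
    rw [hEdef, Nat.cast_sum, Finset.sum_congr rfl fun x _ => hs x, Finset.sum_sub_distrib, Finset.sum_add_distrib,
      Finset.sum_const, Finset.card_univ, nsmul_eq_mul, ← hsum_n, ← hsum_k]
    have : t = Fintype.card Q := by rw [htdef, norb, Nat.card_eq_fintype_card]
    rw [this]
    push_cast
    ring
  have hk2 : 2 ≤ k := by
    calc 2 = ({α, β} : Finset Ω).card := (Finset.card_pair hab).symm
      _ ≤ _ := Finset.card_le_card (by
        intro z hz
        simp only [Finset.mem_insert, Finset.mem_singleton] at hz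
        rcases hz with rfl | rfl
        · exact left_mem_line _ _
        · exact right_mem_line _ _)
  -- the sufficient condition from orbit sizes
  have byOrbits : (h : ℤ) * ((k : ℤ) - E) ≤ t → (h : ℚ) ≤ ∑ g ∈ Finset.univ.filter (· ∈ K), weight G Ω g := by
    intro hle
    refine weight_sum_of_orbits hab hh2 ?_
    show (t : ℤ) * (2 * (h : ℤ) - 1) ≤ n * h
    nlinarith
  by_cases hk4 : 4 ≤ k
  · exact weight_sum_of_lines ht (by omega) hab hh2 (Or.inl hk4)
  rcases Nat.lt_or_ge E 2 with hE2 | hE2
  · rcases Nat.eq_zero_or_pos E with hE0 | hE0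
    · -- all orbits have at most two points
      have hall : ∀ ω : Ω, (orbit K ω).ncard ≤ 2 := by
        intro ω
        rw [hsz]
        have h1 := Finset.sum_eq_zero_iff.mp (hEdef.symm.trans hE0) (q ω) (Finset.mem_univ _)
        have h2 := hpos (q ω)
        simp only [s] at h1
        split at h1 <;> omega
      by_cases hh3 : 3 ≤ h
      · exfalso
        refine not_smallOrbits ht hab ?_ hh3
        intro x hx y hy c hxc hyc
        by_contra hne
        have hsub : ((({c, x • c, y • c} : Finset Ω)) : Set Ω) ⊆ orbit K c := by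
          intro w hw
          simp only [Finset.coe_insert, Finset.coe_singleton, Set.mem_insert_iff, Set.mem_singleton_iff] at hw
          rcases hw with rfl | rfl | rfl
          · exact mem_orbit_self _
          · exact mem_orbit c (⟨x, hx⟩ : K)
          · exact mem_orbit c (⟨y, hy⟩ : K)
        have h1 := (Set.ncard_le_ncard hsub (Set.toFinite _)).trans (hall c)
        rw [Set.ncard_coe_finset, Finset.card_insert_of_notMem (by simp [Ne.symm hxc, Ne.symm hyc]),
          Finset.card_pair hne] at h1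
        omega
      have hh : h = 2 := by omega
      by_cases hfano : k = 3 ∧ n = 7
      · exact (not_fano hfano.2 ht hab hh hfano.1).elim
      refine byOrbits ?_
      rw [hE0, hh]
      rw [hE0] at hE
      push_cast at hE ⊢
      omega
    · -- one orbit of size three
      exfalso
      have hE1 : E = 1 := by omega
      obtain ⟨x₀, hx₀⟩ : ∃ x, s x ≠ 0 := by
        by_contra! h0
        rw [hEdef, Finset.sum_eq_zero fun x _ => h0 x] at hE1
        omega
      obtain ⟨c, rfl⟩ := Quotient.exists_rep x₀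
      have hrest : ∀ x, x ≠ q c → s x = 0 := by
        intro x hx
        by_contra hne
        have h1 : ∑ y ∈ ({q c, x} : Finset Q), s y ≤ E := Finset.sum_le_univ_sum_of_nonneg (fun _ => Nat.zero_le _)
        rw [Finset.sum_pair (Ne.symm hx)] at h1
        change s (q c) ≠ 0 at hx₀
        omega
      have hc1 : s (q c) = 1 := by
        have h1 : s (q c) ≤ E := Finset.single_le_sum (fun y _ => Nat.zero_le (s y)) (Finset.mem_univ _)
        change s (q c) ≠ 0 at hx₀
        omega
      refine not_three_orbit (c := c) (by omega) ht hab ?_ ?_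
      · rw [hsz]
        have := hpos (q c)
        simp only [s] at hc1
        split at hc1 <;> omega
      · intro ω hω
        rw [hsz]
        have hne : q ω ≠ q c := fun hq => hω (Quotient.exact hq)
        have h1 := hrest _ hne
        have := hpos (q ω)
        simp only [s] at h1
        split at h1 <;> omega
  · by_cases hle : (h : ℤ) * ((k : ℤ) - E) ≤ t
    · exact byOrbits hle
    · have hk3 : k = 3 := by
        by_contra hne
        apply hle
        have h1 : (h : ℤ) * ((k : ℤ) - E) ≤ 0 := mul_nonpos_of_nonneg_of_nonpos (by omega) (by omega)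
        omega
      refine weight_sum_of_lines ht (by omega) hab hh2 (Or.inr ⟨hk3, ?_⟩)
      by_cases hE3 : 3 ≤ E
      · exfalso
        apply hle
        have h1 : (h : ℤ) * ((k : ℤ) - E) ≤ 0 := mul_nonpos_of_nonneg_of_nonpos (by omega) (by omega)
        omega
      · have hE' : E = 2 := by omega
        rw [hk3, hE'] at hle
        push_cast at hle
        rw [hk3, hE'] at hE
        push_cast at hE
        change n + 1 ≤ 2 * h
        omega

end Cfsg.Agent.Lib.Derange.Excess
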