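import Mathlib

set_option autoImplicit false
set_option linter.unusedSectionVars false

/-!
Fixed-point-free elements of prime order from Sylow subgroups of transitive groups.
-/

namespace Cfsg.Agent.Lib.Derange.PrimeOrder

open MulAction

variable {G Ω : Type*} [Group G] [Finite G] [MulAction G Ω] [Fintype Ω]

/-- Orbit sizes of a Sylow subgroup of a transitive group are multiples of the `p`-part of the degree. -/
lemma dvd_card_sylow_orbit [IsPretransitive G Ω] {p k : ℕ} [Fact p.Prime] (hk : p ^ k ∣ Fintype.card Ω)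
    (P : Sylow p G) (ω : Ω) : p ^ k ∣ Nat.card (orbit (P : Subgroup G) ω) := by
  haveI : Nonempty Ω := ⟨ω⟩
  have h1 : Nat.card Ω * Nat.card (stabilizer G ω) = Nat.card G := by
    rw [← index_stabilizer_of_transitive (G := G) ω, mul_comm, Subgroup.card_mul_index]
  have h2 : Nat.card (orbit (P : Subgroup G) ω) * Nat.card (stabilizer (P : Subgroup G) ω) = Nat.card (P : Subgroup G) := by
    rw [Nat.card_coe_set_eq, ← index_stabilizer, mul_comm, Subgroup.card_mul_index]
  obtain ⟨j, hj⟩ := IsPGroup.iff_card.mp (P.2.to_subgroup (stabilizer (P : Subgroup G) ω))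
  have hdvd : Nat.card (stabilizer (P : Subgroup G) ω) ∣ Nat.card (stabilizer G ω) := by
    refine Subgroup.card_dvd_of_injective
      (((P : Subgroup G).subtype.comp (stabilizer (P : Subgroup G) ω).subtype).codRestrict (stabilizer G ω) ?_) ?_
    · intro x; exact x.2
    · intro a b hab
      exact Subtype.ext (Subtype.ext (congrArg (fun z : stabilizer G ω => (z : G)) hab))
  rw [hj] at hdvd
  obtain ⟨a, hP⟩ := IsPGroup.iff_card.mp P.2
  rw [Nat.card_eq_fintype_card (α := Ω)] at h1
  have hmax : p ^ (k + j) ∣ Nat.card (P : Subgroup G) := by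
    have h3 : p ^ (k + j) ∣ Nat.card G := h1 ▸ (pow_add p k j).symm ▸ mul_dvd_mul hk hdvd
    exact P.pow_dvd_card_of_pow_dvd_card h3
  have hp := (Fact.out : p.Prime)
  rw [← h2, hj, pow_add] at hmax
  exact Nat.dvd_of_mul_dvd_mul_right (pow_pos hp.pos j) hmax

theorem exists_fpf_prime_power [FaithfulSMul G Ω] [IsPretransitive G Ω] {p k : ℕ} (hp : p.Prime) (hk : 1 ≤ k)
    (hΩ : Fintype.card Ω = p ^ k) : ∃ g : G, orderOf g = p ∧ ∀ ω : Ω, g • ω ≠ ω := by
  haveI := Fact.mk hp
  obtain ⟨P⟩ : Nonempty (Sylow p G) := inferInstance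
  have htrans : ∀ a b : Ω, b ∈ orbit (P : Subgroup G) a := by
    intro a b
    have h1 := dvd_card_sylow_orbit (G := G) (p := p) (k := k) (Ω := Ω) (by rw [hΩ]) P a
    have h2 : Nat.card (orbit (P : Subgroup G) a) ≤ p ^ k := by
      rw [← hΩ, ← Nat.card_eq_fintype_card]
      exact Nat.card_le_card_of_injective _ Subtype.coe_injective
    have h3 : 0 < Nat.card (orbit (P : Subgroup G) a) := by
      rw [Nat.card_coe_set_eq, Set.ncard_pos]
      exact nonempty_orbit a
    have h4 := le_antisymm h2 (Nat.le_of_dvd h3 h1)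
    have h5 : orbit (P : Subgroup G) a = Set.univ := by
      apply Set.eq_of_subset_of_ncard_le (Set.subset_univ _)
      rw [Set.ncard_univ, ← Nat.card_coe_set_eq, h4, Nat.card_eq_fintype_card, hΩ]
    simp [h5]
  haveI : Nontrivial Ω := Fintype.one_lt_card_iff_nontrivial.mp (hΩ ▸ Nat.one_lt_pow (by omega) hp.one_lt)
  haveI : Nontrivial (P : Subgroup G) := by
    obtain ⟨a, b, hab⟩ := exists_pair_ne Ω
    obtain ⟨x, hx⟩ := htrans a b
    refine ⟨⟨x, 1, fun h => hab ?_⟩⟩
    subst h
    simpa using hx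
  haveI := P.2.center_nontrivial
  have hdvd : p ∣ Nat.card (Subgroup.center (P : Subgroup G)) := by
    obtain ⟨j, hj⟩ := IsPGroup.iff_card.mp (P.2.to_subgroup (Subgroup.center (P : Subgroup G)))
    have : 1 < Nat.card (Subgroup.center (P : Subgroup G)) := Finite.one_lt_card
    rw [hj] at this ⊢
    exact dvd_pow_self p (by rintro rfl; simp at this)
  obtain ⟨z, hz⟩ := exists_prime_orderOf_dvd_card' p hdvd
  have hzo : orderOf ((z : (P : Subgroup G)) : G) = p := by
    rw [Subgroup.orderOf_coe, Subgroup.orderOf_coe, hz]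
  refine ⟨_, hzo, fun ω hω => ?_⟩
  have h1 : ((z : (P : Subgroup G)) : G) = 1 := by
    refine eq_of_smul_eq_smul (α := Ω) fun b => ?_
    rw [one_smul]
    obtain ⟨x, rfl⟩ := htrans ω b
    have hc : (x : G) * (z : (P : Subgroup G)) = ((z : (P : Subgroup G)) : G) * x :=
      congrArg Subtype.val (Subgroup.mem_center_iff.mp z.2 x)
    show _ • ((x : G) • ω) = (x : G) • ω
    rw [← mul_smul, ← hc, mul_smul, hω]
  rw [h1, orderOf_one] at hzo
  exact hp.ne_one hzo.symm

theorem exists_fpf_small [FaithfulSMul G Ω] [IsPretransitive G Ω] {p m : ℕ} (hp : p.Prime) (hm : 1 ≤ m) (hmp : m < p)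
    (hΩ : Fintype.card Ω = m * p) : ∃ g : G, orderOf g = p ∧ ∀ ω : Ω, g • ω ≠ ω := by
  classical
  haveI := Fact.mk hp
  obtain ⟨P⟩ : Nonempty (Sylow p G) := inferInstance
  haveI : Fintype G := Fintype.ofFinite G
  obtain ⟨a, hP⟩ := IsPGroup.iff_card.mp P.2
  have horb : ∀ ω : Ω, Nat.card (orbit (P : Subgroup G) ω) = p := by
    intro ω
    have h1 := dvd_card_sylow_orbit (G := G) (k := 1) (by rw [pow_one, hΩ]; exact dvd_mul_left p m) P ω
    rw [pow_one] at h1
    have h2 : Nat.card (orbit (P : Subgroup G) ω) ≤ m * p := by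
      rw [← hΩ, ← Nat.card_eq_fintype_card]
      exact Nat.card_le_card_of_injective _ Subtype.coe_injective
    obtain ⟨j, hj⟩ := P.2.card_orbit ω
    rw [hj] at h1 h2 ⊢
    have hlt : p ^ j < p ^ 2 := lt_of_le_of_lt h2 (by rw [sq]; exact Nat.mul_lt_mul_of_pos_right hmp hp.pos)
    have : j < 2 := (Nat.pow_lt_pow_iff_right hp.one_lt).mp hlt
    interval_cases j
    · simp [hp.ne_one] at h1
    · simp
  have hidx : ∀ ω : Ω, (stabilizer (P : Subgroup G) ω).index = p := fun ω => by
    rw [index_stabilizer, ← Nat.card_coe_set_eq, horb ω]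
  have hPc : p ∣ Nat.card (P : Subgroup G) := by
    obtain ⟨ω⟩ : Nonempty Ω := Fintype.card_pos_iff.mp (hΩ ▸ Nat.mul_pos hm hp.pos)
    have h1 := Subgroup.index_dvd_card (stabilizer (P : Subgroup G) ω)
    rwa [hidx ω] at h1
  have hnormal : ∀ ω : Ω, (stabilizer (P : Subgroup G) ω).Normal := by
    intro ω
    refine Subgroup.normal_of_index_eq_minFac_card ?_
    rw [hidx ω, hP, Nat.Prime.pow_minFac hp]
    rintro rfl
    rw [hP, pow_zero, Nat.dvd_one] at hPc
    exact hp.ne_one hPc
  let Q := Quotient (orbitRel (P : Subgroup G) Ω)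
  let S : Q → Finset (P : Subgroup G) := fun x => Finset.univ.filter (· ∈ stabilizer (P : Subgroup G) x.out)
  have hSeq : ∀ ω : Ω, stabilizer (P : Subgroup G) (Quotient.mk (orbitRel (P : Subgroup G) Ω) ω).out
      = stabilizer (P : Subgroup G) ω := by
    intro ω
    obtain ⟨y, hy⟩ : (Quotient.mk (orbitRel (P : Subgroup G) Ω) ω).out ∈ orbit (P : Subgroup G) ω :=
      orbitRel_apply.mp (Quotient.exact (Quotient.out_eq _))
    rw [← hy, stabilizer_smul_eq_stabilizer_map_conj]
    haveI := hnormal ω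
    ext x
    simp only [Subgroup.mem_map_equiv, MulAut.conj_symm_apply]
    exact ⟨fun h => by simpa [mul_assoc] using (hnormal ω).conj_mem _ h y,
      fun h => by simpa [mul_assoc] using (hnormal ω).conj_mem _ h y⁻¹⟩
  have hQ : Fintype.card Q = m := by
    have h1 := MulAction.selfEquivSigmaOrbits (P : Subgroup G) Ω
    have h2 := Fintype.card_congr h1
    rw [Fintype.card_sigma] at h2
    simp only [← Nat.card_eq_fintype_card, horb, Finset.sum_const, smul_eq_mul] at h2
    rw [Nat.card_eq_fintype_card, hΩ, Finset.card_univ] at h2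
    exact (Nat.eq_of_mul_eq_mul_right hp.pos h2).symm
  have hScard : ∀ x : Q, (S x).card * p = Nat.card (P : Subgroup G) := by
    intro x
    rw [← Subgroup.card_mul_index (stabilizer (P : Subgroup G) x.out), hidx, Nat.card_eq_fintype_card,
      Fintype.card_subtype]
  obtain ⟨g, hg⟩ : ∃ g : (P : Subgroup G), ∀ x : Q, g ∉ S x := by
    by_contra! h
    have h1 : Nat.card (P : Subgroup G) ≤ ∑ x : Q, (S x).card := by
      rw [Nat.card_eq_fintype_card, ← Finset.card_univ]
      refine (Finset.card_le_card (fun g _ => ?_)).trans Finset.card_biUnion_le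
      obtain ⟨x, hx⟩ := h g
      exact Finset.mem_biUnion.mpr ⟨x, Finset.mem_univ _, hx⟩
    have h2 : Nat.card (P : Subgroup G) * p ≤ m * Nat.card (P : Subgroup G) := by
      refine (Nat.mul_le_mul_right p h1).trans (le_of_eq ?_)
      rw [Finset.sum_mul, Finset.sum_congr rfl fun x _ => hScard x, Finset.sum_const, Finset.card_univ, hQ,
        smul_eq_mul]
    have h3 : 0 < Nat.card (P : Subgroup G) := Nat.card_pos
    nlinarith
  have hfree : ∀ ω : Ω, (g : G) • ω ≠ ω := by
    intro ω hω
    apply hg (Quotient.mk _ ω)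
    simp only [S, Finset.mem_filter, Finset.mem_univ, true_and, hSeq]
    exact hω
  refine ⟨g, orderOf_eq_prime ?_ ?_, hfree⟩
  · refine eq_of_smul_eq_smul (α := Ω) fun ω => ?_
    rw [one_smul]
    haveI := hnormal ω
    have h1 := Subgroup.pow_index_mem (stabilizer (P : Subgroup G) ω) g
    rw [hidx ω] at h1
    exact h1
  · intro h
    obtain ⟨ω⟩ : Nonempty Ω := Fintype.card_pos_iff.mp (hΩ ▸ Nat.mul_pos hm hp.pos)
    exact hfree ω (by rw [h, one_smul])

end Cfsg.Agent.Lib.Derange.PrimeOrder
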