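import Cfsg.Agent.Lib.Derange.Counting

set_option autoImplicit false
set_option linter.style.haveILetI false
set_option linter.unusedSectionVars false

/-!
In a 2-transitive group of degree at least seven which is not sharply 2-transitive, the excess term of the derangement
identity is at least the group order.
-/

namespace Cfsg.Agent.Lib.Derange.TwoTrans

open MulAction Cfsg.Agent.Lib.Derange.Counting
open scoped Classical

variable {G Ω : Type*} [Group G] [Fintype G] [MulAction G Ω] [FaithfulSMul G Ω] [Fintype Ω]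

/-- The stabiliser of two points. -/
def pairStab (G : Type*) [Group G] {Ω : Type*} [MulAction G Ω] (a b : Ω) : Subgroup G :=
  stabilizer G a ⊓ stabilizer G b

lemma mem_pairStab {a b : Ω} {g : G} : g ∈ pairStab G a b ↔ g • a = a ∧ g • b = b := by
  simp [pairStab, Subgroup.mem_inf, mem_stabilizer_iff]

lemma pairStab_comm (a b : Ω) : pairStab G a b = pairStab G b a := inf_comm _ _

variable (G) in
/-- 2-transitivity in the form used here. -/
def TwoTrans (Ω : Type*) [MulAction G Ω] : Prop :=
  ∀ a b c d : Ω, a ≠ b → c ≠ d → ∃ g : G, g • a = c ∧ g • b = d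

variable (G) in
/-- The set of fixed points of the stabiliser of `a` and `b`. -/
noncomputable def line (a b : Ω) : Finset Ω :=
  Finset.univ.filter fun ω => ∀ x ∈ pairStab G a b, x • ω = ω

lemma mem_line {a b ω : Ω} : ω ∈ line G a b ↔ ∀ x ∈ pairStab G a b, x • ω = ω := by
  simp [line]

lemma left_mem_line (a b : Ω) : a ∈ line G a b := mem_line.mpr fun _ hx => (mem_pairStab.mp hx).1
lemma right_mem_line (a b : Ω) : b ∈ line G a b := mem_line.mpr fun _ hx => (mem_pairStab.mp hx).2

lemma conj_mem_pairStab {g x : G} {a b c d : Ω} (hc : g • a = c) (hd : g • b = d) (hx : x ∈ pairStab G a b) :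
    g * x * g⁻¹ ∈ pairStab G c d := by
  rw [mem_pairStab] at hx ⊢
  constructor
  · rw [← hc, mul_smul, inv_smul_smul, mul_smul, hx.1]
  · rw [← hd, mul_smul, inv_smul_smul, mul_smul, hx.2]

lemma conj_mem_pairStab_iff {g x : G} {a b c d : Ω} (hc : g • a = c) (hd : g • b = d) :
    g * x * g⁻¹ ∈ pairStab G c d ↔ x ∈ pairStab G a b := by
  refine ⟨fun h => ?_, conj_mem_pairStab hc hd⟩
  have := conj_mem_pairStab (g := g⁻¹) (a := c) (b := d) (c := a) (d := b)
    (by rw [← hc, inv_smul_smul]) (by rw [← hd, inv_smul_smul]) h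
  simpa [mul_assoc] using this

lemma card_pairStab_eq (ht : TwoTrans G Ω) {a b c d : Ω} (hab : a ≠ b) (hcd : c ≠ d) :
    Nat.card (pairStab G a b) = Nat.card (pairStab G c d) := by
  obtain ⟨g, hc, hd⟩ := ht a b c d hab hcd
  exact Nat.card_congr (Equiv.subtypeEquiv (MulAut.conj g).toEquiv
    (fun x => (conj_mem_pairStab_iff hc hd).symm))

lemma pairStab_eq_of_mem_line (ht : TwoTrans G Ω) {a b c d : Ω} (hab : a ≠ b) (hcd : c ≠ d)
    (hc : c ∈ line G a b) (hd : d ∈ line G a b) : pairStab G a b = pairStab G c d :=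
  Subgroup.eq_of_le_of_card_ge (fun x hx => mem_pairStab.mpr ⟨mem_line.mp hc x hx, mem_line.mp hd x hx⟩)
    (card_pairStab_eq ht hcd hab).le

lemma smul_mem_line {g : G} {a b ω : Ω} (h : ω ∈ line G a b) : g • ω ∈ line G (g • a) (g • b) := by
  rw [mem_line] at h ⊢
  intro y hy
  have := h (g⁻¹ * y * g) (by simpa [mul_assoc] using conj_mem_pairStab (g := g⁻¹) (inv_smul_smul g a) (inv_smul_smul g b) hy)
  rw [mul_smul, mul_smul, inv_smul_eq_iff] at this
  exact this

lemma card_line_eq (ht : TwoTrans G Ω) {a b c d : Ω} (hab : a ≠ b) (hcd : c ≠ d) :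
    (line G a b).card = (line G c d).card := by
  obtain ⟨g, hc, hd⟩ := ht a b c d hab hcd
  refine Finset.card_nbij' (fun ω => g • ω) (fun ω => g⁻¹ • ω) ?_ ?_ ?_ ?_
  · intro ω hω
    simpa [hc, hd] using smul_mem_line (g := g) hω
  · intro ω hω
    have := smul_mem_line (g := g⁻¹) hω
    rwa [← hc, ← hd, inv_smul_smul, inv_smul_smul] at this
  · intro ω _; simp
  · intro ω _; simp

/-- Elements other than the identity fix at most `(n - 1) / (k - 1)` points, `k` the size of a line. -/
lemma nfix_mul_le (ht : TwoTrans G Ω) {α β : Ω} (hab : α ≠ β) {x : G} (hx : x ≠ 1) :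
    nfix (Ω := Ω) x * ((line G α β).card - 1) ≤ Fintype.card Ω - 1 := by
  obtain ⟨z, hz⟩ : ∃ z : Ω, x • z ≠ z := by
    by_contra! h
    exact hx (eq_of_smul_eq_smul fun ω : Ω => by rw [h, one_smul])
  set Fx := Finset.univ.filter fun ω : Ω => x • ω = ω with hF
  have hne : ∀ f ∈ Fx, z ≠ f := fun f hf h => hz (h ▸ (Finset.mem_filter.mp hf).2)
  have hdisj : (Fx : Set Ω).PairwiseDisjoint fun f => (line G z f).erase z := by
    intro f hf f' hf' hff'
    rw [Function.onFun, Finset.disjoint_left]
    intro w hw hw'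
    rw [Finset.mem_erase] at hw hw'
    have h1 := pairStab_eq_of_mem_line ht (hne f hf) hw.1.symm (left_mem_line z f) hw.2
    have h2 := pairStab_eq_of_mem_line ht (hne f' hf') hw.1.symm (left_mem_line z f') hw'.2
    have hfmem : f' ∈ line G z f := mem_line.mpr fun y hy => (mem_pairStab.mp (h2.trans h1.symm ▸ hy : y ∈ pairStab G z f')).2
    have h3 := pairStab_eq_of_mem_line ht (hne f hf) hff' (right_mem_line z f) hfmem
    have hmem : x ∈ pairStab G z f := h3 ▸ mem_pairStab.mpr
      ⟨(Finset.mem_filter.mp hf).2, (Finset.mem_filter.mp hf').2⟩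
    exact hz (mem_pairStab.mp hmem).1
  have hsub : Fx.biUnion (fun f => (line G z f).erase z) ⊆ Finset.univ.erase z := by
    intro w hw
    obtain ⟨f, -, hw⟩ := Finset.mem_biUnion.mp hw
    simp [(Finset.mem_erase.mp hw).1]
  have h := Finset.card_le_card hsub
  rw [Finset.card_biUnion hdisj, Finset.card_erase_of_mem (Finset.mem_univ z), Finset.card_univ] at h
  rw [Finset.sum_congr rfl (fun f hf => by
    rw [Finset.card_erase_of_mem (left_mem_line z f), card_line_eq ht (hne f hf) hab]), Finset.sum_const,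
    smul_eq_mul] at h
  exact h

variable (G) in
/-- The orbits of the two-point stabiliser have at most two points. -/
def SmallOrbits (a b : Ω) : Prop :=
  ∀ x ∈ pairStab G a b, ∀ y ∈ pairStab G a b, ∀ c : Ω, x • c ≠ c → y • c ≠ c → x • c = y • c

lemma smallOrbits_conj (ht : TwoTrans G Ω) {α β : Ω} (hab : α ≠ β) (h : SmallOrbits G α β) {a b : Ω}
    (hne : a ≠ b) : SmallOrbits G a b := by
  obtain ⟨g, hga, hgb⟩ := ht a b α β hne hab
  intro x hx y hy c hxc hyc
  have key : ∀ z : G, (g * z * g⁻¹) • (g • c) = g • (z • c) := fun z => by simp [mul_smul]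
  have := h _ (conj_mem_pairStab hga hgb hx) _ (conj_mem_pairStab hga hgb hy) (g • c)
    (by rw [key]; exact fun h => hxc (smul_left_cancel g h)) (by rw [key]; exact fun h => hyc (smul_left_cancel g h))
  rw [key, key] at this
  exact smul_left_cancel g this

lemma smallOrbits_sq {a b : Ω} (h : SmallOrbits G a b) {x : G} (hx : x ∈ pairStab G a b) : x * x = 1 := by
  refine eq_of_smul_eq_smul fun c : Ω => ?_
  rw [one_smul]
  by_contra hc
  have h1 : x • c ≠ c := fun h1 => hc (by rw [mul_smul, h1, h1])
  have h2 := h x hx _ (mul_mem hx hx) c h1 hc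
  rw [mul_smul] at h2
  exact h1 (smul_left_cancel x h2).symm

lemma smallOrbits_comm {a b : Ω} (h : SmallOrbits G a b) {x y : G} (hx : x ∈ pairStab G a b)
    (hy : y ∈ pairStab G a b) : x * y = y * x := by
  have hinv : ∀ z ∈ pairStab G a b, z⁻¹ = z := fun z hz => inv_eq_of_mul_eq_one_right (smallOrbits_sq h hz)
  calc x * y = (x * y)⁻¹ := (hinv _ (mul_mem hx hy)).symm
    _ = y⁻¹ * x⁻¹ := mul_inv_rev _ _
    _ = y * x := by rw [hinv x hx, hinv y hy]

/-- Some element of the stabiliser of `a, b` moving `c` maps it into the line through `a` and `c`. -/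
lemma exists_moving_to_line (ht : TwoTrans G Ω) (hsmall : ∀ a b : Ω, a ≠ b → SmallOrbits G a b)
    {a b : Ω} (hab : a ≠ b) (hcard : 3 ≤ Nat.card (pairStab G a b)) {c : Ω} (hc : c ∉ line G a b) :
    ∃ x ∈ pairStab G a b, x • c ≠ c ∧ x • c ∈ line G a c := by
  have hS := hsmall a b hab
  have hac : a ≠ c := fun h => hc (h ▸ left_mem_line a b)
  obtain ⟨x₀, hx₀, hx₀c⟩ : ∃ x ∈ pairStab G a b, x • c ≠ c := by
    by_contra! h
    exact hc (mem_line.mpr h)
  obtain ⟨t, ht', ht1, htc⟩ : ∃ t ∈ pairStab G a b, t ≠ 1 ∧ t • c = c := by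
    by_contra! h
    have hinj : Function.Injective (fun x : pairStab G a b => decide ((x : G) = 1)) := by
      intro u v huv
      simp only [decide_eq_decide] at huv
      by_cases hu : (u : G) = 1
      · exact Subtype.ext (hu.trans (huv.mp hu).symm)
      · have hv : (v : G) ≠ 1 := fun hv => hu (huv.mpr hv)
        have hh := hS u u.2 v v.2 c (h u u.2 hu) (h v v.2 hv)
        refine Subtype.ext ?_
        by_contra hne
        refine h ((v : G)⁻¹ * u) (mul_mem (inv_mem v.2) u.2) (fun h1 => hne (inv_mul_eq_one.mp h1).symm) ?_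
        rw [mul_smul, hh, inv_smul_smul]
    have := Nat.card_le_card_of_injective _ hinj
    simp only [Nat.card_eq_fintype_card, Fintype.card_bool] at this
    rw [Nat.card_eq_fintype_card] at hcard
    omega
  obtain ⟨d, hd⟩ : ∃ d : Ω, t • d ≠ d := by
    by_contra! h
    exact ht1 (eq_of_smul_eq_smul fun ω : Ω => by rw [h, one_smul])
  have hda : a ≠ d := fun h => hd (h ▸ (mem_pairStab.mp ht').1)
  obtain ⟨x, hx, hxc, hxd⟩ : ∃ x ∈ pairStab G a b, x • c ≠ c ∧ x • d = d := by
    by_cases h0 : x₀ • d = d
    · exact ⟨x₀, hx₀, hx₀c, h0⟩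
    · have := hS x₀ hx₀ t ht' d h0 hd
      refine ⟨x₀⁻¹ * t, mul_mem (inv_mem hx₀) ht', ?_, by rw [mul_smul, ← this, inv_smul_smul]⟩
      rw [mul_smul, htc, Ne, inv_smul_eq_iff]
      exact fun h => hx₀c h.symm
  have hS' := hsmall a c hac
  have htc' : t ∈ pairStab G a c := mem_pairStab.mpr ⟨(mem_pairStab.mp ht').1, htc⟩
  obtain ⟨y₀, hy₀, hy₀b⟩ : ∃ y ∈ pairStab G a c, y • b ≠ b := by
    by_contra! h
    apply hc
    have hb : b ∈ line G a c := mem_line.mpr h
    have := pairStab_eq_of_mem_line ht hac hab (left_mem_line a c) hb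
    exact mem_line.mpr fun z hz => (mem_pairStab.mp (this ▸ hz : z ∈ pairStab G a c)).2
  obtain ⟨y, hy, hyb, hyd⟩ : ∃ y ∈ pairStab G a c, y • b ≠ b ∧ y • d = d := by
    by_cases h0 : y₀ • d = d
    · exact ⟨y₀, hy₀, hy₀b, h0⟩
    · have := hS' y₀ hy₀ t htc' d h0 hd
      refine ⟨y₀⁻¹ * t, mul_mem (inv_mem hy₀) htc', ?_, by rw [mul_smul, ← this, inv_smul_smul]⟩
      rw [mul_smul, (mem_pairStab.mp ht').2, Ne, inv_smul_eq_iff]
      exact fun h => hy₀b h.symm
  have hxy : x * y = y * x :=
    smallOrbits_comm (hsmall a d hda) (mem_pairStab.mpr ⟨(mem_pairStab.mp hx).1, hxd⟩)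
      (mem_pairStab.mpr ⟨(mem_pairStab.mp hy).1, hyd⟩)
  refine ⟨x, hx, hxc, mem_line.mpr fun z hz => ?_⟩
  have hcomm : x * z = z * x := by
    by_cases hzb : z • b = b
    · exact smallOrbits_comm hS hx (mem_pairStab.mpr ⟨(mem_pairStab.mp hz).1, hzb⟩)
    · have h1 := hS' z hz y hy b hzb hyb
      have h2 : y⁻¹ * z ∈ pairStab G a b := mem_pairStab.mpr
        ⟨(mem_pairStab.mp (mul_mem (inv_mem hy) hz)).1, by rw [mul_smul, h1, inv_smul_smul]⟩
      have h3 := smallOrbits_comm hS hx h2
      calc x * z = (x * y) * (y⁻¹ * z) := by group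
        _ = y * (x * (y⁻¹ * z)) := by rw [hxy, mul_assoc]
        _ = z * x := by rw [h3]; group
  rw [← mul_smul, ← hcomm, mul_smul, (mem_pairStab.mp hz).2]

/-- Orbits of size at most two force two-point stabilisers of order at most two. -/
lemma not_smallOrbits (ht : TwoTrans G Ω) {α β : Ω} (hab : α ≠ β) (h : SmallOrbits G α β)
    (hcard : 3 ≤ Nat.card (pairStab G α β)) : False := by
  have hsmall : ∀ a b : Ω, a ≠ b → SmallOrbits G a b := fun a b hne => smallOrbits_conj ht hab h hne
  obtain ⟨c, hc⟩ : ∃ c, c ∉ line G α β := by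
    by_contra! hall
    have hbot : pairStab G α β = ⊥ := by
      rw [Subgroup.eq_bot_iff_forall]
      intro x hx
      exact eq_of_smul_eq_smul fun ω : Ω => by rw [one_smul]; exact mem_line.mp (hall ω) x hx
    rw [hbot, Subgroup.card_bot] at hcard
    omega
  obtain ⟨x, hx, hxc, hxl⟩ := exists_moving_to_line ht hsmall hab hcard hc
  have hc' : c ∉ line G β α := by rwa [line, pairStab_comm, ← line]
  obtain ⟨x', hx', hx'c, hx'l⟩ := exists_moving_to_line ht hsmall hab.symm (by rwa [pairStab_comm]) hc'
  have heq : x' • c = x • c := (h x hx x' (by rwa [pairStab_comm]) c hxc hx'c).symm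
  rw [heq] at hx'l
  have hac : α ≠ c := fun hh => hc (hh ▸ left_mem_line α β)
  have hbc : β ≠ c := fun hh => hc (hh ▸ right_mem_line α β)
  have h1 := pairStab_eq_of_mem_line ht hac hxc.symm (right_mem_line α c) hxl
  have h2 := pairStab_eq_of_mem_line ht hbc hxc.symm (right_mem_line β c) hx'l
  have h3 : pairStab G α c = pairStab G β c := h1.trans h2.symm
  have h4 : β ∈ line G α c := mem_line.mpr fun z hz => (mem_pairStab.mp (h3 ▸ hz : z ∈ pairStab G β c)).1
  have h5 := pairStab_eq_of_mem_line ht hac hab (left_mem_line α c) h4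
  exact hc (mem_line.mpr fun z hz => (mem_pairStab.mp (h5 ▸ hz : z ∈ pairStab G α c)).2)

/-- A two-point stabiliser cannot have one orbit of size three and all others of size at most two. -/
lemma not_three_orbit (hn : 6 ≤ Fintype.card Ω) (ht : TwoTrans G Ω) {α β c : Ω} (hab : α ≠ β)
    (hc : (orbit (pairStab G α β) c).ncard = 3)
    (hrest : ∀ ω, ω ∉ orbit (pairStab G α β) c → (orbit (pairStab G α β) ω).ncard ≤ 2) : False := by
  set K := pairStab G α β with hK
  haveI : Fact (Nat.Prime 3) := ⟨Nat.prime_three⟩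
  have h3 : 3 ∣ Nat.card K := by
    have := Nat.card_congr (orbitProdStabilizerEquivGroup K c)
    rw [Nat.card_prod, Nat.card_coe_set_eq, hc] at this
    exact Dvd.intro _ this
  obtain ⟨y, hy⟩ := exists_prime_orderOf_dvd_card' 3 h3
  have hy3 : y ^ 3 = 1 := hy ▸ pow_orderOf_eq_one y
  have hy1 : y ≠ 1 := by
    intro h
    rw [h, orderOf_one] at hy
    omega
  set σ : Equiv.Perm Ω := toPermHom G Ω (y : G) with hσ
  have hσapp : ∀ ω, σ ω = (y : G) • ω := fun ω => rfl
  have hsupp : σ.support ⊆ (orbit K c).toFinite.toFinset := by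
    intro ω hω
    rw [Equiv.Perm.mem_support, hσapp] at hω
    rw [Set.Finite.mem_toFinset]
    by_contra hnot
    have hle := hrest ω hnot
    have h2 : ((y : G) * y) • ω ≠ ω := by
      intro h2
      apply hω
      have h1 : (y : G) ^ 3 = 1 := by exact_mod_cast congrArg Subtype.val hy3
      calc (y : G) • ω = (y : G) • (((y : G) * y) • ω) := by rw [h2]
        _ = ω := by rw [← mul_smul, ← mul_assoc, ← pow_three', h1, one_smul]
    have hne : (y : G) • ω ≠ ((y : G) * y) • ω := by
      rw [mul_smul]
      exact fun h => hω (smul_left_cancel _ h).symm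
    have hsub : ((({ω, (y : G) • ω, ((y : G) * y) • ω} : Finset Ω) : Set Ω)) ⊆ orbit K ω := by
      intro w hw
      simp only [Finset.coe_insert, Finset.coe_singleton, Set.mem_insert_iff, Set.mem_singleton_iff] at hw
      rcases hw with rfl | rfl | rfl
      · exact mem_orbit_self _
      · exact mem_orbit _ y
      · exact mem_orbit _ (y * y)
    have hcard := Set.ncard_le_ncard hsub (Set.toFinite _)
    rw [Set.ncard_coe_finset, Finset.card_insert_of_notMem (by simp [hω.symm, h2.symm]), Finset.card_pair hne] at hcard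
    omega
  have hσ1 : σ ≠ 1 := by
    intro h
    apply hy1
    refine Subtype.ext (eq_of_smul_eq_smul fun ω : Ω => ?_)
    rw [Subgroup.coe_one, one_smul, ← hσapp, h, Equiv.Perm.one_apply]
  have hσ3 : σ ^ 3 = 1 := by
    rw [hσ, ← map_pow, show (y : G) ^ 3 = 1 by exact_mod_cast congrArg Subtype.val hy3, map_one]
  have hcardle : σ.support.card ≤ 3 := by
    refine (Finset.card_le_card hsupp).trans ?_
    rw [← Set.ncard_eq_toFinset_card _, hc]
  have hthree : σ.IsThreeCycle := by
    rw [← card_support_eq_three_iff]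
    have h2 := Equiv.Perm.two_le_card_support_of_ne_one hσ1
    by_contra hne
    obtain ⟨u, v, huv, hswap⟩ := Equiv.Perm.card_support_eq_two.mp (show σ.support.card = 2 by omega)
    rw [hswap, pow_three, Equiv.swap_mul_self_mul] at hσ3
    exact huv (Equiv.swap_eq_refl_iff.mp hσ3)
  set R := (toPermHom G Ω).range with hR
  haveI : IsMultiplyPretransitive R Ω 2 := by
    rw [is_two_pretransitive_iff]
    intro a b c d hab hcd
    obtain ⟨g, h1, h2⟩ := ht a b c d hab hcd
    exact ⟨⟨_, g, rfl⟩, h1, h2⟩
  haveI : IsPreprimitive R Ω := isPreprimitive_of_is_two_pretransitive inferInstance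
  have halt : alternatingGroup Ω ≤ R :=
    Equiv.Perm.alternatingGroup_le_of_isPreprimitive_of_isThreeCycle_mem inferInstance hthree ⟨_, rfl⟩
  -- all points other than α and β lie in one orbit
  have hcα : c ≠ α ∧ c ≠ β := by
    constructor <;> rintro rfl
    all_goals
      have hsingle : orbit K c ⊆ {c} := by
        rintro _ ⟨x, rfl⟩
        first
          | exact (mem_pairStab.mp x.2).1
          | exact (mem_pairStab.mp x.2).2
      have := Set.ncard_le_ncard hsingle (Set.toFinite _)
      rw [hc, Set.ncard_singleton] at this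
      omega
  have hall : ∀ d, d ≠ α → d ≠ β → d ∈ orbit K c := by
    intro d hdα hdβ
    by_cases hdc : d = c
    · subst hdc; exact mem_orbit_self _
    obtain ⟨e, he⟩ : ∃ e, e ∉ ({α, β, c, d} : Finset Ω) := by
      by_contra! hall
      have h1 := Finset.card_le_card (show (Finset.univ : Finset Ω) ⊆ {α, β, c, d} from fun x _ => hall x)
      have h2 : ({α, β, c, d} : Finset Ω).card ≤ 4 := Finset.card_le_four
      rw [Finset.card_univ] at h1
      omega
    simp only [Finset.mem_insert, Finset.mem_singleton, not_or] at he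
    obtain ⟨heα, heβ, hec, hed⟩ := he
    set τ : Equiv.Perm Ω := Equiv.swap c e * Equiv.swap c d with hτ
    have hτmem : τ ∈ alternatingGroup Ω := by
      rw [Equiv.Perm.mem_alternatingGroup, hτ, map_mul, Equiv.Perm.sign_swap (Ne.symm hec),
        Equiv.Perm.sign_swap (Ne.symm hdc)]
      rfl
    obtain ⟨g, hg⟩ := halt hτmem
    have hgapp : ∀ ω, g • ω = τ ω := fun ω => by rw [← hg]; rfl
    have hgα : g • α = α := by
      rw [hgapp, hτ, Equiv.Perm.mul_apply, Equiv.swap_apply_of_ne_of_ne hcα.1.symm (Ne.symm hdα),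
        Equiv.swap_apply_of_ne_of_ne hcα.1.symm (Ne.symm heα)]
    have hgβ : g • β = β := by
      rw [hgapp, hτ, Equiv.Perm.mul_apply, Equiv.swap_apply_of_ne_of_ne hcα.2.symm (Ne.symm hdβ),
        Equiv.swap_apply_of_ne_of_ne hcα.2.symm (Ne.symm heβ)]
    have hgc : g • c = d := by
      rw [hgapp, hτ, Equiv.Perm.mul_apply, Equiv.swap_apply_left, Equiv.swap_apply_of_ne_of_ne hdc (Ne.symm hed)]
    exact ⟨⟨g, mem_pairStab.mpr ⟨hgα, hgβ⟩⟩, hgc⟩
  have hsub : (((Finset.univ.erase α).erase β : Finset Ω) : Set Ω) ⊆ orbit K c := fun d hd => by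
    simp only [Finset.coe_erase, Set.mem_sdiff, Set.mem_singleton_iff] at hd
    exact hall d hd.1.2 hd.2
  have := Set.ncard_le_ncard hsub (Set.toFinite _)
  rw [Set.ncard_coe_finset, Finset.card_erase_of_mem (by simp [hab.symm]), Finset.card_erase_of_mem (Finset.mem_univ _),
    Finset.card_univ, hc] at this
  omega

/-- There is no 2-transitive group of degree seven whose two-point stabilisers have order two and three fixed points. -/
lemma not_fano (hn : Fintype.card Ω = 7) (ht : TwoTrans G Ω) {α β : Ω} (hab : α ≠ β)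
    (hcard : Nat.card (pairStab G α β) = 2) (hline : (line G α β).card = 3) : False := by
  obtain ⟨x, hx, hx1⟩ : ∃ x ∈ pairStab G α β, x ≠ 1 := by
    by_contra! h
    rw [Subgroup.eq_bot_iff_forall _ |>.mpr h, Subgroup.card_bot] at hcard
    omega
  have hall : ∀ y ∈ pairStab G α β, y = 1 ∨ y = x := by
    intro y hy
    by_contra! h
    have hsub : ({1, x, y} : Finset G) ⊆ Finset.univ.filter (· ∈ pairStab G α β) := by
      intro z hz
      simp only [Finset.mem_insert, Finset.mem_singleton] at hz
      rcases hz with rfl | rfl | rfl <;> simp [hx, hy, one_mem]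
    have := Finset.card_le_card hsub
    rw [Finset.card_insert_of_notMem (by simp [hx1.symm, h.1.symm]), Finset.card_pair h.2.symm,
      ← Fintype.card_subtype] at this
    rw [Nat.card_eq_fintype_card] at hcard
    omega
  set Δ := line G α β with hΔ
  have hfixΔ : ∀ {c}, x • c = c → c ∈ Δ := fun {c} hc => mem_line.mpr fun y hy => by
    rcases hall y hy with rfl | rfl
    · exact one_smul _ _
    · exact hc
  have hxx : x * x = 1 := by
    rcases hall _ (mul_mem hx hx) with h | h
    · exact h
    · exact absurd (mul_eq_right.mp h) hx1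
  -- third point of the line through a moved point and its image
  have third : ∀ γ, γ ∉ Δ → ∃ c ∈ Δ, ∀ w ∈ line G γ (x • γ), w ∈ Δ → w = c ∧ c ∈ line G γ (x • γ) := by
    intro γ hγ
    have hne : γ ≠ x • γ := fun h => hγ (hfixΔ h.symm)
    have hxγ' : x • (x • γ) = γ := by rw [← mul_smul, hxx, one_smul]
    obtain ⟨c, hc, hc1, hc2⟩ : ∃ c ∈ line G γ (x • γ), c ≠ γ ∧ c ≠ x • γ := by
      by_contra! h
      have hsub : line G γ (x • γ) ⊆ {γ, x • γ} := fun w hw => by
        by_cases h1 : w = γ
        · simp [h1]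
        · simp [h w hw h1]
      have := (Finset.card_le_card hsub).trans Finset.card_le_two
      rw [card_line_eq ht hne hab, hline] at this
      omega
    have hset : line G γ (x • γ) = {γ, x • γ, c} := by
      refine (Finset.eq_of_subset_of_card_le ?_ ?_).symm
      · intro w hw
        simp only [Finset.mem_insert, Finset.mem_singleton] at hw
        rcases hw with rfl | rfl | rfl
        · exact left_mem_line _ _
        · exact right_mem_line _ _
        · exact hc
      · rw [card_line_eq ht hne hab, hline, Finset.card_insert_of_notMem (by simp [hne, hc1.symm]),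
          Finset.card_pair hc2.symm]
    have hxc : x • c = c := by
      have hmem := smul_mem_line (g := x) hc
      rw [hxγ', line, pairStab_comm, ← line, hset] at hmem
      simp only [Finset.mem_insert, Finset.mem_singleton] at hmem
      rcases hmem with h | h | h
      · exact absurd (smul_left_cancel x (h.trans hxγ'.symm)) hc2
      · exact absurd (smul_left_cancel x h) hc1
      · exact h
    refine ⟨c, hfixΔ hxc, fun w hw hwΔ => ⟨?_, hc⟩⟩
    rw [hset] at hw
    simp only [Finset.mem_insert, Finset.mem_singleton] at hw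
    rcases hw with rfl | rfl | rfl
    · exact absurd hwΔ hγ
    · exfalso
      apply hγ
      refine hfixΔ ?_
      have := mem_line.mp hwΔ x hx
      rw [hxγ'] at this
      exact this.symm
    · rfl
  obtain ⟨γ, hγ⟩ : ∃ γ, γ ∉ Δ := by
    by_contra! h
    have := Finset.card_le_card (show Finset.univ ⊆ Δ from fun w _ => h w)
    rw [Finset.card_univ, hline, hn] at this
    omega
  obtain ⟨c, hcΔ, hc⟩ := third γ hγ
  have hne : ∀ {δ}, δ ∉ Δ → δ ≠ x • δ := fun hδ h => hδ (hfixΔ h.symm)
  have hout : ∀ {δ}, δ ∉ Δ → x • δ ∉ Δ := by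
    intro δ hδ hxδ
    have := mem_line.mp hxδ x hx
    exact hne hδ (smul_left_cancel x this).symm
  have hcmem : c ∈ line G γ (x • γ) := by
    by_contra hcn
    obtain ⟨w, hw, hw1, hw2⟩ : ∃ w ∈ line G γ (x • γ), w ≠ γ ∧ w ≠ x • γ := by
      by_contra! h
      have hsub : line G γ (x • γ) ⊆ {γ, x • γ} := fun w hw => by
        by_cases h1 : w = γ
        · simp [h1]
        · simp [h w hw h1]
      have := (Finset.card_le_card hsub).trans Finset.card_le_two
      rw [card_line_eq ht (hne hγ) hab, hline] at this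
      omega
    have hwΔ : w ∈ Δ := by
      have hxw := smul_mem_line (g := x) hw
      rw [← mul_smul, hxx, one_smul, line, pairStab_comm, ← line] at hxw
      by_contra hwn
      have hsub : ({γ, x • γ, w, x • w} : Finset Ω) ⊆ line G γ (x • γ) := by
        intro u hu
        simp only [Finset.mem_insert, Finset.mem_singleton] at hu
        rcases hu with rfl | rfl | rfl | rfl
        · exact left_mem_line _ _
        · exact right_mem_line _ _
        · exact hw
        · exact hxw
      have hcard4 := Finset.card_le_card hsub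
      have hxxγ : x • (x • γ) = γ := by rw [← mul_smul, hxx, one_smul]
      rw [card_line_eq ht (hne hγ) hab, hline,
        Finset.card_insert_of_notMem (by
          simp only [Finset.mem_insert, Finset.mem_singleton, not_or]
          exact ⟨hne hγ, hw1.symm, fun h => hw2 (smul_left_cancel x (h.symm.trans hxxγ.symm))⟩),
        Finset.card_insert_of_notMem (by
          simp only [Finset.mem_insert, Finset.mem_singleton, not_or]
          exact ⟨hw2.symm, fun h => hw1 (smul_left_cancel x h).symm⟩),
        Finset.card_pair (hne hwn)] at hcard4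
      omega
    exact hcn (hc w hw hwΔ).2
  -- every such line passes through c
  have hall_c : ∀ δ, δ ∉ Δ → c ∈ line G δ (x • δ) := by
    intro δ hδ
    by_cases hδγ : δ = γ
    · subst hδγ; exact hcmem
    by_cases hδγ' : δ = x • γ
    · subst hδγ'
      rw [← mul_smul, hxx, one_smul, line, pairStab_comm, ← line]
      exact hcmem
    have hcδ : c ≠ δ := fun h => hδ (h ▸ hcΔ)
    obtain ⟨w, hw, hw1, hw2⟩ : ∃ w ∈ line G c δ, w ≠ c ∧ w ≠ δ := by
      by_contra! h
      have hsub : line G c δ ⊆ {c, δ} := fun w hw => by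
        by_cases h1 : w = c
        · simp [h1]
        · simp [h w hw h1]
      have := (Finset.card_le_card hsub).trans Finset.card_le_two
      rw [card_line_eq ht hcδ hab, hline] at this
      omega
    have hwΔ : w ∉ Δ := by
      intro hwΔ
      have h1 := pairStab_eq_of_mem_line ht hab hw1.symm hcΔ hwΔ
      have h2 := pairStab_eq_of_mem_line ht hcδ hw1.symm (left_mem_line c δ) hw
      exact hδ (mem_line.mpr fun y hy => (mem_pairStab.mp ((h2.trans h1.symm) ▸ hy : y ∈ pairStab G c δ)).2)
    have hcγ : c ≠ γ := fun h => hγ (h ▸ hcΔ)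
    have hwγ : w ∉ line G γ (x • γ) := by
      intro hwl
      have h1 := pairStab_eq_of_mem_line ht (hne hγ) hw1.symm hcmem hwl
      have h2 := pairStab_eq_of_mem_line ht hcδ hw1.symm (left_mem_line c δ) hw
      have hδl : δ ∈ line G γ (x • γ) :=
        mem_line.mpr fun y hy => (mem_pairStab.mp ((h2.trans h1.symm) ▸ hy : y ∈ pairStab G c δ)).2
      have hsub : ({γ, x • γ, c, δ} : Finset Ω) ⊆ line G γ (x • γ) := by
        intro u hu
        simp only [Finset.mem_insert, Finset.mem_singleton] at hu
        rcases hu with rfl | rfl | rfl | rfl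
        · exact left_mem_line _ _
        · exact right_mem_line _ _
        · exact hcmem
        · exact hδl
      have hcard4 := Finset.card_le_card hsub
      rw [card_line_eq ht (hne hγ) hab, hline,
        Finset.card_insert_of_notMem (by simp [hne hγ, hcγ.symm, Ne.symm hδγ]),
        Finset.card_insert_of_notMem (by
          simp only [Finset.mem_insert, Finset.mem_singleton, not_or]
          exact ⟨fun h => hout hγ (h ▸ hcΔ), Ne.symm hδγ'⟩),
        Finset.card_pair hcδ] at hcard4
      omega
    have hwne : w ≠ γ ∧ w ≠ x • γ :=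
      ⟨fun h => hwγ (h ▸ left_mem_line _ _), fun h => hwγ (h ▸ right_mem_line _ _)⟩
    have hxxγ : x • (x • γ) = γ := by rw [← mul_smul, hxx, one_smul]
    have hwxδ : w = x • δ := by
      by_contra hwn
      have hsub : ({γ, x • γ, δ, x • δ, w} : Finset Ω) ⊆ Finset.univ \ Δ := by
        intro u hu
        simp only [Finset.mem_insert, Finset.mem_singleton] at hu
        rcases hu with rfl | rfl | rfl | rfl | rfl <;> simp [hγ, hδ, hwΔ, hout]
      have hcard5 := Finset.card_le_card hsub
      rw [Finset.card_univ_sdiff, hline, hn,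
        Finset.card_insert_of_notMem (by
          simp only [Finset.mem_insert, Finset.mem_singleton, not_or]
          exact ⟨hne hγ, Ne.symm hδγ, fun h => hδγ' (smul_left_cancel x (by rw [hxxγ]; exact h.symm)), hwne.1.symm⟩),
        Finset.card_insert_of_notMem (by
          simp only [Finset.mem_insert, Finset.mem_singleton, not_or]
          exact ⟨Ne.symm hδγ', fun h => hδγ (smul_left_cancel x h).symm, hwne.2.symm⟩),
        Finset.card_insert_of_notMem (by
          simp only [Finset.mem_insert, Finset.mem_singleton, not_or]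
          exact ⟨hne hδ, hw2.symm⟩),
        Finset.card_pair (Ne.symm hwn)] at hcard5
      omega
    rw [hwxδ] at hw
    have h1 := pairStab_eq_of_mem_line ht hcδ (hne hδ) (right_mem_line c δ) hw
    exact mem_line.mpr fun y hy => (mem_pairStab.mp (h1 ▸ hy : y ∈ pairStab G c δ)).1
  obtain ⟨d, hd, hdc⟩ : ∃ d ∈ Δ, d ≠ c := by
    by_contra! h
    have := (Finset.card_le_card (show Δ ⊆ {c} from fun u hu => Finset.mem_singleton.mpr (h u hu))).trans
      (Finset.card_singleton c).le
    omega
  obtain ⟨g, hgc, hgd⟩ := ht c d d c hdc.symm hdc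
  have hKcd : pairStab G α β = pairStab G c d := pairStab_eq_of_mem_line ht hab hdc.symm hcΔ hd
  have hgx : g * x * g⁻¹ = x := by
    have h1 : g * x * g⁻¹ ∈ pairStab G d c := conj_mem_pairStab hgc hgd (hKcd ▸ hx)
    rw [pairStab_comm, ← hKcd] at h1
    rcases hall _ h1 with h2 | h2
    · exact absurd (conj_eq_one_iff.mp h2) hx1
    · exact h2
  have hgγ : g • γ ∉ Δ := by
    intro hgγ
    have h1 := mem_line.mp hgγ x hx
    rw [← hgx, mul_smul, inv_smul_smul, mul_smul] at h1
    exact hne hγ (smul_left_cancel g h1).symm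
  have hgl := smul_mem_line (g := g) (hall_c γ hγ)
  have hgxγ : g • (x • γ) = x • (g • γ) := by
    conv_rhs => rw [← hgx]
    rw [mul_smul, inv_smul_smul, mul_smul]
  rw [hgc, hgxγ] at hgl
  obtain ⟨c', -, hc'⟩ := third _ hgγ
  exact hdc ((hc' d hgl hd).1.trans (hc' c (hall_c _ hgγ) hcΔ).1.symm)

end Cfsg.Agent.Lib.Derange.TwoTrans
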